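import Mathlib
import Cfsg.Agent.Lib.InvolChar.Basic
import Cfsg.Agent.S3305
import Cfsg.Agent.Lib.PGroups.Basic

/-!
# Sylow `2`-subgroups with cyclic pairwise intersections: control of fusion

If any two distinct Sylow `2`-subgroups of `G` meet in a cyclic group, then for every `a`, the
centralizer `C_G(a)` is transitive on the Sylow `2`-subgroups containing `a`.
-/

set_option autoImplicit false
set_option linter.unusedSectionVars false
set_option linter.style.haveILetI false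

namespace Cfsg.Agent.Lib.CycSyl

open Subgroup Cfsg Cfsg.Agent.Lib.InvolChar.Basic

universe u

/-- Any two distinct Sylow `2`-subgroups meet in a cyclic group. -/
def CycInt (G : Type*) [Group G] : Prop :=
  ∀ S T : Sylow 2 G, S ≠ T → IsCyclic ↥((S : Subgroup G) ⊓ (T : Subgroup G))

section
variable {G : Type u} [Group G] [Finite G]

/-- The automorphism group of a cyclic `2`-group is a `2`-group. -/
theorem isPGroup_mulAut {D : Type*} [Group D] [Finite D] [IsCyclic D] (hD : IsPGroup 2 D) :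
    IsPGroup 2 (MulAut D) := by
  haveI : Fact (Nat.Prime 2) := ⟨Nat.prime_two⟩
  obtain ⟨k, hk⟩ := IsPGroup.iff_card.1 hD
  rcases k with _ | k
  · apply IsPGroup.of_card (n := 0)
    rw [IsCyclic.card_mulAut, hk]
    simp
  · apply IsPGroup.of_card (n := k)
    rw [IsCyclic.card_mulAut, hk, Nat.totient_prime_pow_succ Nat.prime_two]
    simp

/-- A Sylow `2`-subgroup covers a `2`-group quotient. -/
theorem sylow_sup_eq_top {X : Type*} [Group X] [Finite X] (P : Sylow 2 X) (K : Subgroup X) [K.Normal]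
    (hK : IsPGroup 2 (X ⧸ K)) : (P : Subgroup X) ⊔ K = ⊤ := by
  haveI : Fact (Nat.Prime 2) := ⟨Nat.prime_two⟩
  have hs := QuotientGroup.mk'_surjective K
  let P' : Sylow 2 (X ⧸ K) := P.mapSurjective hs
  have h1 : (P' : Subgroup (X ⧸ K)) = ⊤ :=
    (P'.3 (hK.to_subgroup ⊤) le_top).symm
  have h2 : (P : Subgroup X).map (QuotientGroup.mk' K) = ⊤ := by
    rw [← h1]; rfl
  have h3 := Subgroup.comap_map_eq (QuotientGroup.mk' K) (P : Subgroup X)
  rw [h2, QuotientGroup.ker_mk', Subgroup.comap_top] at h3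
  exact h3.symm

/-- **Transitivity of `C_G(a)` on the Sylow subgroups containing `a`**, by downward induction on the
intersection. -/
theorem exists_comm_smul_aux (hc : CycInt G) : ∀ (d : ℕ) (S T : Sylow 2 G),
    Nat.card (S : Subgroup G) - Nat.card ↥((S : Subgroup G) ⊓ (T : Subgroup G)) = d →
    ∀ a : G, a ∈ (S : Subgroup G) → a ∈ (T : Subgroup G) → ∃ c : G, c * a = a * c ∧ c • S = T := by
  classical
  haveI : Fact (Nat.Prime 2) := ⟨Nat.prime_two⟩
  intro d
  induction d using Nat.strong_induction_on with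
  | _ d ih =>
  intro S T hd a haS haT
  by_cases hST : S = T
  · exact ⟨1, by simp, by simpa using hST⟩
  set D : Subgroup G := (S : Subgroup G) ⊓ (T : Subgroup G) with hD
  have hDS : D < (S : Subgroup G) := by
    refine lt_of_le_of_ne inf_le_left (fun h => hST ?_)
    have h1 : (S : Subgroup G) ≤ T := by rw [← h]; exact inf_le_right
    exact Sylow.ext (S.3 T.2 h1).symm
  have hDT : D < (T : Subgroup G) := by
    refine lt_of_le_of_ne inf_le_right (fun h => hST ?_)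
    have h1 : (T : Subgroup G) ≤ S := by rw [← h]; exact inf_le_left
    exact Sylow.ext (T.3 S.2 h1)
  haveI hcyc : IsCyclic D := hc S T hST
  have hDp : IsPGroup 2 D := S.2.to_le inf_le_left
  -- the normalizer of `D`
  let N : Subgroup G := normalizer (D : Set G)
  let φ : N →* MulAut D := D.normalizerMonoidHom
  have hker : ∀ k : N, k ∈ φ.ker → ∀ d' ∈ D, (k : G) * d' = d' * k := by
    intro k hk d' hd'
    rw [Subgroup.normalizerMonoidHom_ker, Subgroup.mem_subgroupOf,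
      Subgroup.mem_centralizer_iff] at hk
    exact (hk d' hd').symm
  have hquot : IsPGroup 2 (N ⧸ φ.ker) := by
    have h1 : IsPGroup 2 φ.range := (isPGroup_mulAut hDp).to_subgroup _
    exact h1.of_injective (QuotientGroup.quotientKerEquivRange φ).toMonoidHom
      (QuotientGroup.quotientKerEquivRange φ).injective
  have hSp : IsPGroup 2 ((S : Subgroup G).subgroupOf N) := S.2.comap_subtype
  have hTp : IsPGroup 2 ((T : Subgroup G).subgroupOf N) := T.2.comap_subtype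
  obtain ⟨P₁, hP₁⟩ := hSp.exists_le_sylow
  obtain ⟨P₂, hP₂⟩ := hTp.exists_le_sylow
  obtain ⟨y, hy⟩ := MulAction.exists_smul_eq N P₁ P₂
  have hsup := sylow_sup_eq_top P₁ φ.ker hquot
  have hym : y ∈ φ.ker ⊔ (P₁ : Subgroup N) := by
    rw [sup_comm, hsup]; trivial
  obtain ⟨k, hk, b, hb, hyb⟩ := Subgroup.mem_sup_of_normal_left.1 hym
  have hkP : k • P₁ = P₂ := by
    have hbP : b • P₁ = P₁ := by
      rw [Sylow.smul_eq_iff_mem_normalizer]
      exact Subgroup.le_normalizer hb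
    rw [← hy, ← hyb, mul_smul, hbP]
  -- the Sylow subgroups of `G`
  have hP₁G : IsPGroup 2 ((P₁ : Subgroup N).map N.subtype) := P₁.2.map _
  obtain ⟨T₁, hT₁⟩ := hP₁G.exists_le_sylow
  have hmemT₁ : ∀ z : N, z ∈ (P₁ : Subgroup N) → (z : G) ∈ (T₁ : Subgroup G) :=
    fun z hz => hT₁ ⟨z, hz, rfl⟩
  set T₂ : Sylow 2 G := (k : G) • T₁ with hT₂
  have hmemT₂ : ∀ z : N, z ∈ (P₂ : Subgroup N) → (z : G) ∈ (T₂ : Subgroup G) := by
    intro z hz
    rw [← hkP, mem_smul_sylow] at hz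
    rw [hT₂, mem_smul_sylow]
    exact hmemT₁ _ hz
  have hDN : D ≤ N := Subgroup.le_normalizer
  -- elements of `S` normalizing `D` lie in `T₁`
  have hS₁ : ∀ z ∈ (S : Subgroup G), z ∈ N → z ∈ (T₁ : Subgroup G) := by
    intro z hz hzN
    exact hmemT₁ ⟨z, hzN⟩ (hP₁ (by rw [Subgroup.mem_subgroupOf]; exact hz))
  have hT₂' : ∀ z ∈ (T : Subgroup G), z ∈ N → z ∈ (T₂ : Subgroup G) := by
    intro z hz hzN
    exact hmemT₂ ⟨z, hzN⟩ (hP₂ (by rw [Subgroup.mem_subgroupOf]; exact hz))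
  have hmemN : ∀ y₁ : G, (∀ d' ∈ D, y₁ * d' * y₁⁻¹ ∈ D) → (∀ d' ∈ D, y₁⁻¹ * d' * y₁ ∈ D) → y₁ ∈ N := by
    intro y₁ h1 h2
    rw [Subgroup.mem_normalizer_iff]
    intro h
    constructor
    · intro hh; exact h1 h hh
    · intro hh
      have := h2 _ hh
      simpa [mul_assoc] using this
  obtain ⟨y₁, hy₁S, hy₁D, hy₁a, hy₁b⟩ := exists_normalizing S.2 hDS
  obtain ⟨y₂, hy₂T, hy₂D, hy₂a, hy₂b⟩ := exists_normalizing T.2 hDT
  have hy₁N := hmemN y₁ hy₁a hy₁b
  have hy₂N := hmemN y₂ hy₂a hy₂b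
  have hcardST : Nat.card (T₂ : Subgroup G) = Nat.card (S : Subgroup G) :=
    Sylow.card_eq_multiplicity T₂ ▸ (Sylow.card_eq_multiplicity S).symm
  -- sizes
  have hlt₁ : Nat.card D < Nat.card ↥((S : Subgroup G) ⊓ (T₁ : Subgroup G)) := by
    have hle : D ≤ (S : Subgroup G) ⊓ (T₁ : Subgroup G) :=
      le_inf inf_le_left (fun z hz => hS₁ z hz.1 (hDN hz))
    have hne : D ≠ (S : Subgroup G) ⊓ (T₁ : Subgroup G) := by
      intro h
      exact hy₁D (h ▸ ⟨hy₁S, hS₁ y₁ hy₁S hy₁N⟩)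
    exact Cfsg.Agent.Lib.PGroups.Basic.card_lt_of_lt (lt_of_le_of_ne hle hne)
  have hlt₂ : Nat.card D < Nat.card ↥((T₂ : Subgroup G) ⊓ (T : Subgroup G)) := by
    have hle : D ≤ (T₂ : Subgroup G) ⊓ (T : Subgroup G) :=
      le_inf (fun z hz => hT₂' z hz.2 (hDN hz)) inf_le_right
    have hne : D ≠ (T₂ : Subgroup G) ⊓ (T : Subgroup G) := by
      intro h
      exact hy₂D (h ▸ ⟨hT₂' y₂ hy₂T hy₂N, hy₂T⟩)
    exact Cfsg.Agent.Lib.PGroups.Basic.card_lt_of_lt (lt_of_le_of_ne hle hne)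
  have hle₁ : Nat.card ↥((S : Subgroup G) ⊓ (T₁ : Subgroup G)) ≤ Nat.card (S : Subgroup G) :=
    Subgroup.card_le_of_le inf_le_left
  have hle₂ : Nat.card ↥((T₂ : Subgroup G) ⊓ (T : Subgroup G)) ≤ Nat.card (T₂ : Subgroup G) :=
    Subgroup.card_le_of_le inf_le_left
  have haD : a ∈ D := ⟨haS, haT⟩
  obtain ⟨c₁, hc₁, hc₁S⟩ := ih (Nat.card (S : Subgroup G) -
      Nat.card ↥((S : Subgroup G) ⊓ (T₁ : Subgroup G))) (by omega) S T₁ rfl a haS
      (hS₁ a haS (hDN haD))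
  obtain ⟨c₃, hc₃, hc₃T⟩ := ih (Nat.card (T₂ : Subgroup G) -
      Nat.card ↥((T₂ : Subgroup G) ⊓ (T : Subgroup G))) (by omega) T₂ T rfl a
      (hT₂' a haT (hDN haD)) haT
  have hka := hker k hk a haD
  refine ⟨c₃ * (k : G) * c₁, ?_, ?_⟩
  · calc c₃ * (k : G) * c₁ * a = c₃ * (k : G) * (c₁ * a) := by group
      _ = c₃ * (k : G) * (a * c₁) := by rw [hc₁]
      _ = c₃ * ((k : G) * a) * c₁ := by group
      _ = c₃ * (a * (k : G)) * c₁ := by rw [hka]
      _ = (c₃ * a) * (k : G) * c₁ := by group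
      _ = (a * c₃) * (k : G) * c₁ := by rw [hc₃]
      _ = a * (c₃ * (k : G) * c₁) := by group
  · rw [mul_smul, mul_smul, hc₁S, ← hT₂, hc₃T]

/-- **Transitivity of `C_G(a)` on the Sylow subgroups containing `a`.** -/
theorem exists_comm_smul (hc : CycInt G) (S T : Sylow 2 G) {a : G} (haS : a ∈ (S : Subgroup G))
    (haT : a ∈ (T : Subgroup G)) : ∃ c : G, c * a = a * c ∧ c • S = T :=
  exists_comm_smul_aux hc _ S T rfl a haS haT

/-- **`N_G(S)` controls fusion in `S`.** -/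
theorem exists_normalizer_conj (hc : CycInt G) (S : Sylow 2 G) {a g : G} (ha : a ∈ (S : Subgroup G))
    (hg : g * a * g⁻¹ ∈ (S : Subgroup G)) : ∃ m : G, m • S = S ∧ m * a * m⁻¹ = g * a * g⁻¹ := by
  have h1 : a ∈ ((g⁻¹ • S : Sylow 2 G) : Subgroup G) := by
    rw [mem_smul_sylow, inv_inv]
    exact hg
  obtain ⟨c, hca, hcS⟩ := exists_comm_smul hc S (g⁻¹ • S) ha h1
  refine ⟨g * c, ?_, ?_⟩
  · rw [mul_smul, hcS, smul_inv_smul]
  · calc g * c * a * (g * c)⁻¹ = g * (c * a) * c⁻¹ * g⁻¹ := by group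
      _ = g * (a * c) * c⁻¹ * g⁻¹ := by rw [hca]
      _ = g * a * g⁻¹ := by group

end

end Cfsg.Agent.Lib.CycSyl
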