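import Mathlib
import Cfsg.Agent.Lib.CycSyl.Fix
import Cfsg.Agent.Lib.Core.Basic

/-!
# The hypothesis of the main theorem and its inheritance by sections
-/

set_option autoImplicit false
set_option linter.unusedSectionVars false
set_option linter.style.haveILetI false

namespace Cfsg.Agent.Lib.CycSyl

open Subgroup Cfsg Cfsg.Agent.Lib.InvolChar.Basic

universe u

/-- The Feit–Thompson theorem as a hypothesis. -/
abbrev FT : Prop := ∀ (X : Type u) [Group X] [Finite X], Odd (Nat.card X) → Group.IsSolvable X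

section
variable {G : Type u} [Group G] [Finite G]

/-- `G/C` is a non-trivial `2`-group, Sylow `2`-subgroups meet cyclically and every `2`-element outside
`C` lies in a unique Sylow `2`-subgroup. -/
structure Hyp (C : Subgroup G) : Prop where
  two : ∀ g : G, ∃ k : ℕ, g ^ (2 ^ k) ∈ C
  cyc : CycInt G
  uniq : ∀ y : G, y ∉ C → (∃ k : ℕ, y ^ (2 ^ k) = 1) → ∀ S T : Sylow 2 G,
    y ∈ (S : Subgroup G) → y ∈ (T : Subgroup G) → S = T
  ne : C ≠ ⊤

/-- Every Sylow `2`-subgroup of a subgroup lies in a Sylow `2`-subgroup of `G`. -/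
theorem exists_sylow_of_subgroup (H : Subgroup G) (A : Sylow 2 H) :
    ∃ T : Sylow 2 G, ∀ a : H, a ∈ (A : Subgroup H) → (a : G) ∈ (T : Subgroup G) := by
  haveI : Fact (Nat.Prime 2) := ⟨Nat.prime_two⟩
  have h : IsPGroup 2 ((A : Subgroup H).map H.subtype) := A.2.map _
  obtain ⟨T, hT⟩ := h.exists_le_sylow
  exact ⟨T, fun a ha => hT ⟨a, ha, rfl⟩⟩

/-- Two Sylow subgroups of `H` inside one Sylow subgroup of `G` coincide. -/
theorem eq_of_le_sylow (H : Subgroup G) (A A' : Sylow 2 H) (T : Sylow 2 G)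
    (hA : ∀ a : H, a ∈ (A : Subgroup H) → (a : G) ∈ (T : Subgroup G))
    (hA' : ∀ a : H, a ∈ (A' : Subgroup H) → (a : G) ∈ (T : Subgroup G)) : A = A' := by
  haveI : Fact (Nat.Prime 2) := ⟨Nat.prime_two⟩
  have hp : IsPGroup 2 ((T : Subgroup G).subgroupOf H) := T.2.comap_subtype
  have h1 := A.3 hp (fun a ha => by rw [Subgroup.mem_subgroupOf]; exact hA a ha)
  have h2 := A'.3 hp (fun a ha => by rw [Subgroup.mem_subgroupOf]; exact hA' a ha)
  exact Sylow.ext (h1.symm.trans h2)

theorem cycInt_subgroup (h : CycInt G) (H : Subgroup G) : CycInt H := by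
  intro A A' hne
  obtain ⟨T, hT⟩ := exists_sylow_of_subgroup H A
  obtain ⟨T', hT'⟩ := exists_sylow_of_subgroup H A'
  have hTT' : T ≠ T' := by
    rintro rfl
    exact hne (eq_of_le_sylow H A A' T hT hT')
  haveI := h T T' hTT'
  let f : ↥((A : Subgroup H) ⊓ (A' : Subgroup H)) →* ↥((T : Subgroup G) ⊓ (T' : Subgroup G)) :=
    (H.subtype.comp ((A : Subgroup H) ⊓ (A' : Subgroup H)).subtype).codRestrict _ (fun x =>
      ⟨hT _ x.2.1, hT' _ x.2.2⟩)
  refine isCyclic_of_injective f ?_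
  intro x y hxy
  have := congrArg Subtype.val hxy
  exact Subtype.ext (Subtype.ext this)

/-- Inheritance by subgroups not inside `C`. -/
theorem Hyp.sub {C : Subgroup G} (h : Hyp C) (H : Subgroup G) (hH : ¬ H ≤ C) :
    Hyp (C.subgroupOf H) where
  two := by
    intro g
    obtain ⟨k, hk⟩ := h.two (g : G)
    refine ⟨k, ?_⟩
    rw [Subgroup.mem_subgroupOf]
    simpa using hk
  cyc := cycInt_subgroup h.cyc H
  uniq := by
    intro y hy ⟨k, hk⟩ A A' hyA hyA'
    obtain ⟨T, hT⟩ := exists_sylow_of_subgroup H A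
    obtain ⟨T', hT'⟩ := exists_sylow_of_subgroup H A'
    have hy' : (y : G) ∉ C := fun hc => hy (by rw [Subgroup.mem_subgroupOf]; exact hc)
    have hTT' := h.uniq y hy' ⟨k, by simpa using congrArg Subtype.val hk⟩ T T' (hT y hyA) (hT' y hyA')
    subst hTT'
    exact eq_of_le_sylow H A A' T hT hT'
  ne := by
    intro htop
    apply hH
    rw [Subgroup.subgroupOf_eq_top] at htop
    exact htop

/-- Inheritance by quotients. -/
theorem Hyp.quot {C : Subgroup G} (h : Hyp C) (Y : Subgroup G) [Y.Normal] (hY : Y ≤ C) :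
    Hyp (C.map (QuotientGroup.mk' Y)) where
  two := by
    intro g
    obtain ⟨g, rfl⟩ := QuotientGroup.mk'_surjective Y g
    obtain ⟨k, hk⟩ := h.two g
    exact ⟨k, ⟨_, hk, by simp⟩⟩
  cyc := Cfsg.Agent.S3305.result h.cyc Y
  uniq := by
    classical
    haveI : Fact (Nat.Prime 2) := ⟨Nat.prime_two⟩
    intro y hy ⟨k, hk⟩ S T hyS hyT
    by_contra hne
    obtain ⟨P, Q, W, hPQ, hW, hmap⟩ := exists_inf_image (QuotientGroup.mk'_surjective Y) S T hne
    have hyW : y ∈ W.map (QuotientGroup.mk' Y) := by rw [hmap]; exact ⟨hyS, hyT⟩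
    obtain ⟨w, hw, rfl⟩ := hyW
    have hwC : w ∉ C := fun hc => hy ⟨w, hc, rfl⟩
    have hw2 : ∃ j : ℕ, w ^ (2 ^ j) = 1 := by
      obtain ⟨j, hj⟩ := (IsPGroup.iff_orderOf.1 P.2) ⟨w, (hW hw).1⟩
      refine ⟨j, ?_⟩
      have : orderOf w = 2 ^ j := by simpa using hj
      rw [← this]
      exact pow_orderOf_eq_one w
    exact hPQ (h.uniq w hwC hw2 P Q (hW hw).1 (hW hw).2)
  ne := by
    intro htop
    apply h.ne
    rw [eq_top_iff]
    intro g _
    have hg : QuotientGroup.mk' Y g ∈ C.map (QuotientGroup.mk' Y) := by rw [htop]; trivial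
    obtain ⟨c, hc, hcg⟩ := hg
    have h1 : c⁻¹ * g ∈ Y := by
      rw [← QuotientGroup.eq_one_iff]
      have : ((c⁻¹ * g : G) : G ⧸ Y) = ((c : G ⧸ Y))⁻¹ * (g : G ⧸ Y) := by simp
      rw [this]
      have h2 : (c : G ⧸ Y) = (g : G ⧸ Y) := hcg
      rw [h2]; simp
    have : g = c * (c⁻¹ * g) := by group
    rw [this]
    exact C.mul_mem hc (hY h1)

theorem Hyp.isPGroup_quotient {C : Subgroup G} [C.Normal] (h : Hyp C) : IsPGroup 2 (G ⧸ C) := by
  intro q
  obtain ⟨g, rfl⟩ := QuotientGroup.mk'_surjective C q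
  obtain ⟨k, hk⟩ := h.two g
  refine ⟨k, ?_⟩
  rw [← map_pow]
  exact (QuotientGroup.eq_one_iff _).2 hk

/-- An element of odd order lies in `C`. -/
theorem Hyp.mem_of_odd {C : Subgroup G} (h : Hyp C) {x : G} (hx : Odd (orderOf x)) : x ∈ C := by
  obtain ⟨k, hk⟩ := h.two x
  have hcop : (2 ^ k).Coprime (orderOf x) := Nat.Coprime.pow_left k (Nat.coprime_two_left.2 hx)
  obtain ⟨m, hm⟩ := exists_pow_eq_self_of_coprime hcop
  rw [← hm]
  exact C.pow_mem hk m

/-- Some Sylow `2`-subgroup element lies outside `C`. -/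
theorem Hyp.exists_not_mem {C : Subgroup G} [C.Normal] (h : Hyp C) (S : Sylow 2 G) :
    ∃ x ∈ (S : Subgroup G), x ∉ C := by
  by_contra hcon
  push Not at hcon
  have h1 := sylow_sup_eq_top S C h.isPGroup_quotient
  have h2 : (S : Subgroup G) ≤ C := hcon
  rw [sup_eq_right.2 h2] at h1
  exact h.ne h1

/-- A group with a normal Sylow `2`-subgroup is solvable. -/
theorem solvable_of_normal_sylow (ft : FT.{u}) (S : Sylow 2 G) (hS : (S : Subgroup G).Normal) :
    Group.IsSolvable G := by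
  haveI : Fact (Nat.Prime 2) := ⟨Nat.prime_two⟩
  haveI := hS
  have hodd : Odd (Nat.card (G ⧸ (S : Subgroup G))) := by
    have h := S.not_dvd_index
    rw [Subgroup.index] at h
    exact Nat.odd_iff.2 (by omega)
  haveI hq := ft _ hodd
  haveI : Group.IsNilpotent (S : Subgroup G) := S.2.isNilpotent
  exact solvable_of_ker_le_range (S : Subgroup G).subtype (QuotientGroup.mk' (S : Subgroup G))
    (by simp)

/-- A normal solvable subgroup with solvable quotient. -/
theorem solvable_of_normal_quotient (Y : Subgroup G) [Y.Normal] (h1 : Group.IsSolvable Y)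
    (h2 : Group.IsSolvable (G ⧸ Y)) : Group.IsSolvable G :=
  solvable_of_ker_le_range Y.subtype (QuotientGroup.mk' Y) (by simp)

end

end Cfsg.Agent.Lib.CycSyl
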